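import Groth.Agent.HopfSub.Main

/-! The group-like elements of a finitely generated commutative Hopf algebra over a field form a
finitely generated group. -/

set_option autoImplicit false
set_option linter.style.haveILetI false

universe u

open scoped TensorProduct

noncomputable section

namespace Groth.Agent.GrpLikeExt87

variable (k : Type u) [Field k] {B : Type u} [CommRing B] [HopfAlgebra k B]

/-- The map from the group algebra of the group-likes. -/
def glHom : MonoidAlgebra k (GroupLike k B) →ₐ[k] B :=
  MonoidAlgebra.lift k B (GroupLike k B) { toFun := GroupLike.val, map_one' := rfl, map_mul' := fun _ _ => rfl }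

theorem glHom_single (g : GroupLike k B) (r : k) : glHom k (MonoidAlgebra.single g r) = r • g.val := by
  simp [glHom]

/-- The map from the group algebra of the group-likes, as a bialgebra map. -/
def glBialgHom : MonoidAlgebra k (GroupLike k B) →ₐc[k] B :=
  BialgHom.ofAlgHom (glHom k)
    (MonoidAlgebra.algHom_ext (fun g => by
      simp [glHom_single, g.isGroupLikeElem_val.counit_eq_one]) (Algebra.ext_id _ _ _))
    (MonoidAlgebra.algHom_ext (fun g => by
      simp [glHom_single, g.isGroupLikeElem_val.comul_eq_tmul_self]) (Algebra.ext_id _ _ _))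

theorem glBialgHom_injective : Function.Injective (glBialgHom k (B := B)) := by
  intro a b h
  apply MonoidAlgebra.coeff_injective
  apply linearIndep_groupLikeVal (R := k) (A := B)
  have h' : glHom k a = glHom k b := h
  simpa [glHom, Finsupp.linearCombination_apply, MonoidAlgebra.lift_apply] using h'

theorem isNoetherianRing_of_faithfullyFlat (R S : Type u) [CommRing R] [CommRing S] [Algebra R S]
    [Module.FaithfullyFlat R S] [IsNoetherianRing S] : IsNoetherianRing R := by
  rw [isNoetherianRing_iff, isNoetherian_iff']
  exact OrderEmbedding.wellFoundedGT (OrderEmbedding.ofMapLEIff (fun I : Ideal R => I.map (algebraMap R S))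
    (fun I J => ⟨fun h => by
      simpa only [Ideal.comap_map_eq_self_of_faithfullyFlat] using Ideal.comap_mono (f := algebraMap R S) h,
      fun h => Ideal.map_mono h⟩))

theorem fg_of_isNoetherianRing_monoidAlgebra (R : Type u) [CommRing R] [Nontrivial R] (G : Type u) [CommGroup G]
    [IsNoetherianRing (MonoidAlgebra R G)] : Group.FG G := by
  let I : Subgroup G → Ideal (MonoidAlgebra R G) := fun H =>
    RingHom.ker (MonoidAlgebra.mapDomainRingHom R (QuotientGroup.mk' H))
  have hI : ∀ H H' : Subgroup G, I H ≤ I H' ↔ H ≤ H' := by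
    intro H H'
    refine ⟨fun h x hx => ?_, fun h => ?_⟩
    · have h1 : MonoidAlgebra.single x (1 : R) - 1 ∈ I H := by
        show MonoidAlgebra.mapDomainRingHom R (QuotientGroup.mk' H) _ = 0
        rw [map_sub, map_one, sub_eq_zero]
        simp [MonoidAlgebra.one_def, (QuotientGroup.eq_one_iff x).2 hx]
      have h2 := h h1
      change MonoidAlgebra.mapDomainRingHom R (QuotientGroup.mk' H') _ = 0 at h2
      rw [map_sub, map_one, sub_eq_zero] at h2
      simp [MonoidAlgebra.one_def] at h2
      exact (QuotientGroup.eq_one_iff x).1 ((MonoidAlgebra.single_left_inj (one_ne_zero (α := R))).1 h2)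
    · intro z hz
      have e : (MonoidAlgebra.mapDomainRingHom R (QuotientGroup.mk' H')) =
          (MonoidAlgebra.mapDomainRingHom R (QuotientGroup.map H H' (MonoidHom.id G) h)).comp
            (MonoidAlgebra.mapDomainRingHom R (QuotientGroup.mk' H)) :=
        MonoidAlgebra.ringHom_ext (fun r => by simp) (fun g => by simp)
      show _ = 0
      rw [e, RingHom.comp_apply, show _ = (0 : MonoidAlgebra R (G ⧸ H)) from hz, map_zero]
  haveI : WellFoundedGT (Subgroup G) := OrderEmbedding.wellFoundedGT (OrderEmbedding.ofMapLEIff I hI)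
  refine Group.fg_iff.2 ?_
  obtain ⟨H, ⟨S, hS, rfl⟩, hmax⟩ := wellFounded_gt.has_min
    {H : Subgroup G | ∃ S : Set G, S.Finite ∧ Subgroup.closure S = H} ⟨⊥, ∅, Set.finite_empty, Subgroup.closure_empty⟩
  refine ⟨S, eq_top_iff.2 fun x _ => ?_, hS⟩
  by_contra hx
  refine hmax _ ⟨insert x S, hS.insert x, rfl⟩ ?_
  exact lt_of_le_of_ne (Subgroup.closure_mono (Set.subset_insert x S))
    fun e => hx (e ▸ Subgroup.subset_closure (Set.mem_insert x S))

theorem groupLike_fg [Algebra.FiniteType k B] : Group.FG (GroupLike k B) := by
  let ι := glBialgHom k (B := B)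
  letI : Algebra (MonoidAlgebra k (GroupLike k B)) B := (ι : MonoidAlgebra k (GroupLike k B) →ₐ[k] B).toRingHom.toAlgebra
  haveI : IsScalarTower k (MonoidAlgebra k (GroupLike k B)) B :=
    IsScalarTower.of_algebraMap_eq fun r => ((ι : MonoidAlgebra k (GroupLike k B) →ₐ[k] B).commutes r).symm
  haveI := HopfSub.faithfullyFlat ι (fun _ => rfl) (glBialgHom_injective k)
  haveI : IsNoetherianRing B := Algebra.FiniteType.isNoetherianRing k B
  haveI := isNoetherianRing_of_faithfullyFlat (MonoidAlgebra k (GroupLike k B)) B
  exact fg_of_isNoetherianRing_monoidAlgebra k (GroupLike k B)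

end Groth.Agent.GrpLikeExt87
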