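import Groth.Agent.GrpLikeExt87.Lift
import Groth.Agent.GrpLikeExt87.CharFG
import Groth.Agent.UnipLib.Scheme
import Groth.Agent.GITLib.HMChar
import Groth.Agent.GrpdLib.MonoClosedField
import Groth.Prelude.Def_CGrpSh2

/-!
Characters of affine commutative group schemes over a field, as group-like elements; restriction to
closed subgroups.
-/

set_option autoImplicit false
set_option linter.style.haveILetI false

universe u

open CategoryTheory CategoryTheory.Limits AlgebraicGeometry MonoidalCategory CartesianMonoidalCategory MonObj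
  Opposite WithConv
open scoped TensorProduct
open Groth.Agent.GITLib.FibrePts Groth.Agent.RedPts

noncomputable section

namespace Groth.Agent.GrpLikeExt87

variable {k : Type u} [Field k]


attribute [local instance] Groth.Agent.UnipLib.algOf

section Group

variable {A : Type u} [CommRing A] [HopfAlgebra k A] {G : Over (Spec (CommRingCat.of k))} [GrpObj G] [IsCommMonObj G]
  (e : Pt (k := k) A ≅ G) [IsMonHom e.hom]

/-- The point of `G(A ⊗ A)` attached to an algebra map. -/
def pt {R : Type u} [CommRing R] [Algebra k R] (f : A →ₐ[k] R) : Pt (k := k) R ⟶ G := mapPt f ≫ e.hom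

theorem pt_mul {R : Type u} [CommRing R] [Algebra k R] (f g : A →ₐ[k] R) :
    pt e (toConv f * toConv g).ofConv = pt e f * pt e g := by
  have h : ∀ φ : WithConv (A →ₐ[k] R), Spec.mapMulEquiv φ = mapPt φ.ofConv := fun φ => Over.OverMorphism.ext rfl
  rw [pt, ← h, map_mul, MonObj.mul_comp, h, h]
  rfl

theorem pt_one {R : Type u} [CommRing R] [Algebra k R] :
    pt e (1 : WithConv (A →ₐ[k] R)).ofConv = 1 := by
  have h : ∀ φ : WithConv (A →ₐ[k] R), Spec.mapMulEquiv φ = mapPt φ.ofConv := fun φ => Over.OverMorphism.ext rfl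
  rw [pt, ← h, map_one, MonObj.one_comp]

include e in
theorem isCocomm : Coalgebra.IsCocomm k A := by
  let l : A →ₐ[k] A ⊗[k] A := Algebra.TensorProduct.includeLeft
  let r : A →ₐ[k] A ⊗[k] A := Algebra.TensorProduct.includeRight
  have h : pt e (toConv r * toConv l).ofConv = pt e (toConv l * toConv r).ofConv := by
    rw [pt_mul, pt_mul, _root_.mul_comm]
  have h2 : (toConv r * toConv l).ofConv = (toConv l * toConv r).ofConv := by
    have h3 : mapPt (toConv r * toConv l).ofConv = mapPt (toConv l * toConv r).ofConv := (cancel_mono e.hom).1 h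
    refine AlgHom.coe_ringHom_injective ?_
    exact congrArg CommRingCat.Hom.hom (Spec.map_injective (congrArg CommaMorphism.left h3))
  refine ⟨LinearMap.ext fun a => ?_⟩
  have h4 := DFunLike.congr_fun h2 a
  simp only [AlgHom.convMul_apply] at h4
  show TensorProduct.comm k A A (Coalgebra.comul a) = Coalgebra.comul a
  have e1 : ∀ z : A ⊗[k] A, Algebra.TensorProduct.lift r l (fun _ _ => Commute.all _ _) z = TensorProduct.comm k A A z := by
    intro z
    induction z using TensorProduct.induction_on with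
    | zero => simp
    | tmul x y => simp [l, r]
    | add x y hx hy => simp [map_add, hx, hy]
  have e2 : ∀ z : A ⊗[k] A, Algebra.TensorProduct.lift l r (fun _ _ => Commute.all _ _) z = z := by
    intro z
    induction z using TensorProduct.induction_on with
    | zero => simp
    | tmul x y => simp [l, r]
    | add x y hx hy => simp [map_add, hx, hy]
  rw [← e1]
  exact h4.trans (e2 _)

variable (χ : CGrpSh.pts Scheme.fppfPrecoverage G ⟶ CGrpSh2.Gm Scheme.fppfPrecoverage (Spec (CommRingCat.of k)))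

/-- The value of a character on a point. -/
def val {T : Over (Spec (CommRingCat.of k))} (x : T ⟶ G) : T ⟶ Red.Gm (Spec (CommRingCat.of k)) :=
  (χ.hom.app (op T) (ULift.up (Additive.ofMul x))).down.toMul

theorem val_comp {T T' : Over (Spec (CommRingCat.of k))} (h : T' ⟶ T) (x : T ⟶ G) : val χ (h ≫ x) = h ≫ val χ x :=
  congrArg Additive.toMul (congrArg ULift.down
    (ConcreteCategory.congr_hom (χ.hom.naturality h.op) (ULift.up (Additive.ofMul x))))

theorem val_mul {T : Over (Spec (CommRingCat.of k))} (x y : T ⟶ G) : val χ (x * y) = val χ x * val χ y :=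
  congrArg (fun z => z.down.toMul) (map_add (χ.hom.app (op T)).hom (ULift.up (Additive.ofMul x)) (ULift.up (Additive.ofMul y)))

theorem val_one {T : Over (Spec (CommRingCat.of k))} : val χ (1 : T ⟶ G) = 1 :=
  congrArg (fun z => z.down.toMul) (map_zero (χ.hom.app (op T)).hom)

/-- The group-like element of a character. -/
def charA : A := gl A (Red.gmFn (val χ e.hom))

theorem gl_val_pt {R : Type u} [CommRing R] [Algebra k R] (f : A →ₐ[k] R) :
    gl R (Red.gmFn (val χ (pt e f))) = f (charA e χ) := by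
  rw [pt, val_comp, gm_comp]
  exact gl_natural f _

theorem gl_gm_mul {R : Type u} [CommRing R] [Algebra k R] (x y : Pt (k := k) R ⟶ Red.Gm (Spec (CommRingCat.of k))) :
    gl R (Red.gmFn (x * y)) = gl R (Red.gmFn x) * gl R (Red.gmFn y) := by
  rw [gm_mul, map_mul]

theorem isGroupLike_charA : IsGroupLikeElem k (charA e χ) := by
  constructor
  · let ε : WithConv (A →ₐ[k] k) := 1
    have h := gl_val_pt e χ ε.ofConv
    have h2 := gl_val_pt e χ (ε * ε).ofConv
    rw [show ε * ε = ε from _root_.mul_one _] at h2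
    have h3 : pt e ε.ofConv = pt e ε.ofConv * pt e ε.ofConv := by
      conv_lhs => rw [← show ε * ε = ε from _root_.mul_one _]
      exact pt_mul e ε.ofConv ε.ofConv
    rw [h3, val_mul, gl_gm_mul, h] at h2
    have hu : IsUnit (ε.ofConv (charA e χ)) := h ▸ (gm_isUnit _).map (gl k)
    have h4 := hu.mul_left_cancel (h2.trans (_root_.mul_one _).symm)
    simpa [ε, AlgHom.convOne_apply] using h4
  · let l : A →ₐ[k] A ⊗[k] A := Algebra.TensorProduct.includeLeft
    let r : A →ₐ[k] A ⊗[k] A := Algebra.TensorProduct.includeRight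
    have h := gl_val_pt e χ (toConv l * toConv r).ofConv
    rw [pt_mul, val_mul, gl_gm_mul, gl_val_pt, gl_val_pt] at h
    have e2 : ∀ z : A ⊗[k] A, Algebra.TensorProduct.lift l r (fun _ _ => Commute.all _ _) z = z := by
      intro z
      induction z using TensorProduct.induction_on with
      | zero => simp
      | tmul x y => simp [l, r]
      | add x y hx hy => simp [map_add, hx, hy]
    rw [AlgHom.convMul_apply] at h
    refine (e2 _).symm.trans (h.symm.trans ?_)
    simp [l, r]

theorem charA_add (χ' : CGrpSh.pts Scheme.fppfPrecoverage G ⟶ CGrpSh2.Gm Scheme.fppfPrecoverage (Spec (CommRingCat.of k))) : charA e (χ + χ') = charA e χ * charA e χ' := by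
  show gl A (Red.gmFn (val χ e.hom * val χ' e.hom)) = _
  exact gl_gm_mul _ _

/-- The algebra map of a point. -/
def algT {T : Over (Spec (CommRingCat.of k))} (x : T ⟶ G) : A →ₐ[k] Γ(T.left, ⊤) where
  toRingHom := ((Scheme.ΓSpecIso (CommRingCat.of A)).inv ≫ (x ≫ e.inv).left.appTop).hom
  commutes' c := by
    let g : T.left ⟶ Spec (CommRingCat.of A) := (x ≫ e.inv).left
    have hg : g ≫ Spec.map (CommRingCat.ofHom (algebraMap k A)) = T.hom := Over.w (x ≫ e.inv)
    show (CommRingCat.ofHom (algebraMap k A) ≫ (Scheme.ΓSpecIso (CommRingCat.of A)).inv ≫ g.appTop) c =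
      ((Scheme.ΓSpecIso (CommRingCat.of k)).inv ≫ T.hom.appTop) c
    rw [Scheme.ΓSpecIso_inv_naturality_assoc, ← Scheme.Hom.comp_appTop, hg]

theorem ptHom_algT {T : Over (Spec (CommRingCat.of k))} (x : T ⟶ G) : UnipLib.ptHom T (toConv (algT e x)) = x ≫ e.inv := by
  refine Over.OverMorphism.ext (ext_of_isAffine (Y := Spec (CommRingCat.of A)) ?_)
  rw [← cancel_epi (Scheme.ΓSpecIso (CommRingCat.of A)).inv]
  exact UnipLib.ptHom_appTop T (toConv (algT e x))

theorem algT_mul {T : Over (Spec (CommRingCat.of k))} (x y : T ⟶ G) :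
    algT e (x * y) = (toConv (algT e x) * toConv (algT e y)).ofConv := by
  refine congrArg WithConv.ofConv (UnipLib.ptHom_injective T (a₁ := toConv (algT e (x * y))) ?_)
  rw [UnipLib.ptHom_mul, ptHom_algT, ptHom_algT, ptHom_algT, MonObj.mul_comp]

theorem algT_comp {T T' : Over (Spec (CommRingCat.of k))} (h : T' ⟶ T) (x : T ⟶ G) (a : A) :
    algT e (h ≫ x) a = h.left.appTop (algT e x a) := rfl

theorem algT_mul_groupLike {T : Over (Spec (CommRingCat.of k))} (x y : T ⟶ G) {a : A} (ha : IsGroupLikeElem k a) :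
    algT e (x * y) a = algT e x a * algT e y a := by
  rw [algT_mul, AlgHom.convMul_apply, ha.comul_eq_tmul_self]
  simp

/-- The point of `G_m` attached to a point and a group-like element. -/
def charPt {a : A} (ha : IsGroupLikeElem k a) {T : Over (Spec (CommRingCat.of k))} (x : T ⟶ G) : T ⟶ Red.Gm (Spec (CommRingCat.of k)) :=
  (gm_surjective (X := T) ((ha.isUnit).map (algT e x))).choose

theorem gmFn_charPt {a : A} (ha : IsGroupLikeElem k a) {T : Over (Spec (CommRingCat.of k))} (x : T ⟶ G) :
    Red.gmFn (charPt e ha x) = algT e x a :=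
  (gm_surjective (X := T) ((ha.isUnit).map (algT e x))).choose_spec

theorem charPt_mul {a : A} (ha : IsGroupLikeElem k a) {T : Over (Spec (CommRingCat.of k))} (x y : T ⟶ G) :
    charPt e ha (x * y) = charPt e ha x * charPt e ha y := by
  apply gm_injective
  rw [gmFn_charPt, gm_mul, gmFn_charPt, gmFn_charPt]
  exact algT_mul_groupLike e x y ha

theorem charPt_comp {a : A} (ha : IsGroupLikeElem k a) {T T' : Over (Spec (CommRingCat.of k))} (h : T' ⟶ T)
    (x : T ⟶ G) : charPt e ha (h ≫ x) = h ≫ charPt e ha x := by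
  apply gm_injective
  rw [gmFn_charPt, gm_comp, gmFn_charPt, algT_comp]

/-- The character of a group-like element. -/
def charOf {a : A} (ha : IsGroupLikeElem k a) :
    CGrpSh.pts Scheme.fppfPrecoverage G ⟶ CGrpSh2.Gm Scheme.fppfPrecoverage (Spec (CommRingCat.of k)) :=
  ⟨{ app := fun T => AddCommGrpCat.ofHom (AddMonoidHom.mk' (fun x => ULift.up (Additive.ofMul (charPt e ha x.down.toMul)))
        fun x y => ULift.ext _ _ (congrArg Additive.ofMul (charPt_mul e ha x.down.toMul y.down.toMul)))
     naturality := fun T T' h => AddCommGrpCat.ext fun x =>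
       ULift.ext _ _ (congrArg Additive.ofMul (charPt_comp e ha h.unop x.down.toMul)) }⟩

theorem charA_charOf {a : A} (ha : IsGroupLikeElem k a) : charA e (charOf e ha) = a := by
  show gl A (Red.gmFn (charPt e ha e.hom)) = a
  rw [gmFn_charPt]
  show (Scheme.ΓSpecIso (CommRingCat.of A)).hom ((e.hom ≫ e.inv).left.appTop ((Scheme.ΓSpecIso (CommRingCat.of A)).inv a)) = a
  rw [e.hom_inv_id]
  exact congrArg (fun φ => CommRingCat.Hom.hom φ a) (Scheme.ΓSpecIso (CommRingCat.of A)).inv_hom_id

theorem charA_injective : Function.Injective (charA e) := fun χ χ' h => by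
  refine Sheaf.hom_ext (NatTrans.ext (funext fun ⟨T⟩ => AddCommGrpCat.ext fun x => ULift.ext _ _ ?_))
  show Additive.ofMul (val χ x.down.toMul) = Additive.ofMul (val χ' x.down.toMul)
  have hx : x.down.toMul = (x.down.toMul ≫ e.inv) ≫ e.hom := by simp
  rw [hx, val_comp, val_comp]
  congr 2
  exact gm_injective ((gl_bijective A).1 h)

end Group

theorem main (H G : Over (Spec (CommRingCat.of k))) [GrpObj H] [IsCommMonObj H] [GrpObj G] [IsCommMonObj G] [IsAffine H.left]
    [LocallyOfFiniteType H.hom] [IsAffine G.left] [LocallyOfFiniteType G.hom]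
    (i : H ⟶ G) [IsMonHom i] [IsClosedImmersion i.left] :
    (Preadditive.leftComp (CGrpSh2.Gm Scheme.fppfPrecoverage (Spec (CommRingCat.of k))) (CGrpSh.ptsMap Scheme.fppfPrecoverage i)).range.FiniteIndex ∧
      (IsAlgClosed k → Function.Surjective (Preadditive.leftComp (CGrpSh2.Gm Scheme.fppfPrecoverage (Spec (CommRingCat.of k))) (CGrpSh.ptsMap Scheme.fppfPrecoverage i))) := by
  haveI : Mono i := (Over.forget _).mono_of_mono_map (inferInstanceAs (Mono i.left))
  obtain ⟨A, B, _, _, eG, eH, π, hG, hH, hA, hπ, hsq⟩ := GrpdLib.MonoClosedField.exists_hopf G H i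
  haveI := hG; haveI := hH
  haveI : Coalgebra.IsCocomm k A := isCocomm eG
  haveI : Coalgebra.IsCocomm k B := isCocomm eH
  haveI : Algebra.FiniteType k B := Algebra.FiniteType.of_surjective (π : A →ₐ[k] B) hπ
  have hres : ∀ χ, charA eH (CGrpSh.ptsMap Scheme.fppfPrecoverage i ≫ χ) = π (charA eG χ) := fun χ => by
    show gl B (Red.gmFn (val χ (eH.hom ≫ i))) = _
    have h : eH.hom ≫ i = pt eG (π : A →ₐ[k] B) := Over.OverMorphism.ext hsq.symm
    rw [h]
    exact gl_val_pt eG χ _
  have key : ∀ ξ : CGrpSh.pts Scheme.fppfPrecoverage H ⟶ CGrpSh2.Gm Scheme.fppfPrecoverage (Spec (CommRingCat.of k)), ∃ n : ℕ, 0 < n ∧ (IsAlgClosed k → n = 1) ∧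
      n • ξ ∈ (Preadditive.leftComp (CGrpSh2.Gm Scheme.fppfPrecoverage (Spec (CommRingCat.of k))) (CGrpSh.ptsMap Scheme.fppfPrecoverage i)).range := fun ξ => by
    obtain ⟨n, hn, hn1, a, ha, hπa⟩ := exists_lift_pow π hπ (isGroupLike_charA eH ξ)
    refine ⟨n, hn, hn1, charOf eG ha, charA_injective eH ?_⟩
    show charA eH (CGrpSh.ptsMap Scheme.fppfPrecoverage i ≫ charOf eG ha) = _
    rw [hres, charA_charOf, hπa]
    clear hn hn1 hπa ha a
    induction n with
    | zero =>
      rw [pow_zero, zero_smul]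
      have h := charA_add eH (0 : CGrpSh.pts Scheme.fppfPrecoverage H ⟶ CGrpSh2.Gm Scheme.fppfPrecoverage (Spec (CommRingCat.of k))) 0
      rw [add_zero] at h
      exact (((isGroupLike_charA eH (0 : CGrpSh.pts Scheme.fppfPrecoverage H ⟶ CGrpSh2.Gm Scheme.fppfPrecoverage (Spec (CommRingCat.of k)))).isUnit).mul_left_cancel
        ((_root_.mul_one _).trans h)).symm ▸ rfl
    | succ m ih => rw [pow_succ, succ_nsmul, charA_add, ← ih]
  refine ⟨?_, fun hcl ξ => ?_⟩
  · let φ : (CGrpSh.pts Scheme.fppfPrecoverage H ⟶ CGrpSh2.Gm Scheme.fppfPrecoverage (Spec (CommRingCat.of k))) →+ Additive (GroupLike k B) :=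
      AddMonoidHom.mk' (fun ξ => Additive.ofMul ⟨charA eH ξ, isGroupLike_charA eH ξ⟩)
        fun x y => congrArg Additive.ofMul (GroupLike.ext (charA_add eH x y))
    have hφ : Function.Bijective φ := ⟨fun x y h => charA_injective eH (congrArg (fun z => (Additive.toMul z).val) h),
      fun z => ⟨charOf eH (Additive.toMul z).isGroupLikeElem_val,
        congrArg Additive.ofMul (GroupLike.ext (charA_charOf eH _))⟩⟩
    haveI := groupLike_fg k (B := B)
    haveI : AddGroup.FG (CGrpSh.pts Scheme.fppfPrecoverage H ⟶ CGrpSh2.Gm Scheme.fppfPrecoverage (Spec (CommRingCat.of k))) :=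
      AddGroup.fg_of_surjective (f := (AddEquiv.ofBijective φ hφ).symm.toAddMonoidHom) (AddEquiv.surjective _)
    let N := (Preadditive.leftComp (CGrpSh2.Gm Scheme.fppfPrecoverage (Spec (CommRingCat.of k))) (CGrpSh.ptsMap Scheme.fppfPrecoverage i)).range
    have htors : AddMonoid.IsTorsion ((CGrpSh.pts Scheme.fppfPrecoverage H ⟶ CGrpSh2.Gm Scheme.fppfPrecoverage (Spec (CommRingCat.of k))) ⧸ N) := fun q => by
      obtain ⟨ξ, rfl⟩ := QuotientAddGroup.mk_surjective q
      obtain ⟨n, hn, -, hmem⟩ := key ξ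
      exact isOfFinAddOrder_iff_nsmul_eq_zero.2 ⟨n, hn, by
        rw [← QuotientAddGroup.mk_nsmul]; exact (QuotientAddGroup.eq_zero_iff _).2 hmem⟩
    haveI : AddGroup.FG ((CGrpSh.pts Scheme.fppfPrecoverage H ⟶ CGrpSh2.Gm Scheme.fppfPrecoverage (Spec (CommRingCat.of k))) ⧸ N) :=
      AddGroup.fg_of_surjective (f := QuotientAddGroup.mk' N) (QuotientAddGroup.mk'_surjective N)
    haveI : Finite ((CGrpSh.pts Scheme.fppfPrecoverage H ⟶ CGrpSh2.Gm Scheme.fppfPrecoverage (Spec (CommRingCat.of k))) ⧸ N) := AddCommGroup.finite_of_fg_torsion _ htors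
    exact AddSubgroup.finiteIndex_of_finite_quotient
  · obtain ⟨n, -, hn1, hmem⟩ := key ξ
    rw [hn1 hcl, one_nsmul] at hmem
    exact hmem

end Groth.Agent.GrpLikeExt87
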