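import Groth.Agent.Comod.Coalg
import Mathlib.RingTheory.Coalgebra.Convolution
import Mathlib.RingTheory.Bialgebra.GroupLike
import Mathlib.RingTheory.Norm.Basic
import Mathlib.LinearAlgebra.Dual.Lemmas
import Mathlib.RingTheory.Ideal.GoingUp
import Mathlib.FieldTheory.IsAlgClosed.Basic

/-!
Group-like elements lift, up to a positive power, along surjective maps of cocommutative bialgebras
over a field; over an algebraically closed field they lift.
-/

set_option autoImplicit false
set_option linter.style.haveILetI false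
set_option backward.isDefEq.respectTransparency false

universe u

open scoped TensorProduct
open WithConv Module

noncomputable section

namespace Groth.Agent.GrpLikeExt87

variable {k : Type u} [Field k] {A B : Type u}

/-- Evaluation of a pair of functionals on a tensor. -/
def pair [AddCommGroup A] [Module k A] (f g : A →ₗ[k] k) : A ⊗[k] A →ₗ[k] k :=
  LinearMap.mul' k k ∘ₗ TensorProduct.map f g

theorem eq_of_pair [AddCommGroup A] [Module k A] {x y : A ⊗[k] A} (h : ∀ f g, pair f g x = pair (k := k) f g y) :
    x = y := by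
  classical
  let b := Module.Free.chooseBasis k A
  refine (b.tensorProduct b).ext_elem fun ij => ?_
  have e : ∀ z : A ⊗[k] A, (b.tensorProduct b).repr z ij = pair (b.coord ij.1) (b.coord ij.2) z := by
    intro z
    induction z using TensorProduct.induction_on with
    | zero => simp
    | tmul u v =>
      obtain ⟨i, j⟩ := ij
      rw [Module.Basis.tensorProduct_repr_tmul_apply]
      simp [pair, mul_comm]
    | add u v hu hv => simp [map_add, hu, hv]
  rw [e, e, h]

theorem exists_char_over {E Q : Type u} [CommRing E] [Algebra k E] [CommRing Q] [Algebra k Q] [Module.Finite k Q]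
    (ρ : E →ₐ[k] Q) (χ : E →ₐ[k] k) (hker : RingHom.ker ρ.toRingHom ≤ RingHom.ker χ.toRingHom) :
    ∃ (L : Type u) (_ : Field L) (_ : Algebra k L) (_ : Module.Finite k L) (ψ : Q →ₐ[k] L),
      ∀ e, ψ (ρ e) = algebraMap k L (χ e) := by
  let P := RingHom.ker χ.toRingHom
  haveI hP : P.IsMaximal :=
    RingHom.ker_isMaximal_of_surjective _ fun r => ⟨algebraMap k _ r, χ.commutes r⟩
  letI : Algebra E Q := ρ.toRingHom.toAlgebra
  haveI : IsScalarTower k E Q := IsScalarTower.of_algebraMap_eq fun r => (ρ.commutes r).symm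
  haveI : Algebra.IsIntegral E Q := Algebra.IsIntegral.tower_top k
  obtain ⟨m, hm, hmP⟩ := Ideal.exists_ideal_over_maximal_of_isIntegral (S := Q) P hker
  haveI := hm
  refine ⟨Q ⧸ m, Ideal.Quotient.field m, inferInstance,
    Module.Finite.of_surjective (Ideal.Quotient.mkₐ k m).toLinearMap Ideal.Quotient.mk_surjective,
    Ideal.Quotient.mkₐ k m, fun e => ?_⟩
  have h1 : e - algebraMap k E (χ e) ∈ P := by
    show χ (e - algebraMap k E (χ e)) = 0
    rw [map_sub, AlgHom.commutes]
    exact sub_self _
  rw [← hmP] at h1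
  have h2 : Ideal.Quotient.mk m (ρ (e - algebraMap k E (χ e))) = 0 := Ideal.Quotient.eq_zero_iff_mem.2 h1
  rw [map_sub ρ, map_sub, sub_eq_zero, AlgHom.commutes] at h2
  exact h2

variable [CommRing A] [Bialgebra k A] [Coalgebra.IsCocomm k A] [CommRing B] [Bialgebra k B]
  [Coalgebra.IsCocomm k B]

/-- The map on dual algebras. -/
def dualMap (π : A →ₐc[k] B) : WithConv (B →ₗ[k] k) →ₐ[k] WithConv (A →ₗ[k] k) where
  toFun g := toConv (g.ofConv ∘ₗ (π : A →ₗc[k] B).toLinearMap)
  map_one' := WithConv.ofConv_injective (LinearMap.ext fun a => by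
    simp [LinearMap.convOne_apply])
  map_mul' f g := LinearMap.convMul_comp_coalgHom_distrib f g (π : A →ₗc[k] B) |> WithConv.toConv_injective.eq_iff.mpr
  map_zero' := rfl
  map_add' f g := rfl
  commutes' r := WithConv.ofConv_injective (LinearMap.ext fun a => by
    simp [LinearMap.convAlgebraMap_apply])

/-- Evaluation at a group-like element. -/
def evGL {b : B} (hb : IsGroupLikeElem k b) : WithConv (B →ₗ[k] k) →ₐ[k] k where
  toFun g := g.ofConv b
  map_one' := by simp [LinearMap.convOne_apply, hb.counit_eq_one]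
  map_mul' f g := by simp [LinearMap.convMul_apply, hb.comul_eq_tmul_self]
  map_zero' := rfl
  map_add' f g := rfl
  commutes' r := by simp [LinearMap.convAlgebraMap_apply, hb.counit_eq_one]

theorem exists_lift_pow (π : A →ₐc[k] B) (hπ : Function.Surjective π) {b : B} (hb : IsGroupLikeElem k b) :
    ∃ n : ℕ, 0 < n ∧ (IsAlgClosed k → n = 1) ∧ ∃ a : A, IsGroupLikeElem k a ∧ π a = b ^ n := by
  classical
  obtain ⟨a₀, ha₀⟩ := hπ b
  obtain ⟨C, hfin, haC, hC⟩ := Comod.exists_finite_subcoalg (k := k) a₀
  haveI := hfin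
  let D := WithConv (A →ₗ[k] k)
  let R : D →ₗ[k] (C →ₗ[k] k) :=
    { toFun := fun f => f.ofConv ∘ₗ C.subtype, map_add' := fun _ _ => rfl, map_smul' := fun _ _ => rfl }
  have hRsurj : Function.Surjective R := fun g => by
    obtain ⟨g', hg'⟩ := g.exists_extend
    exact ⟨toConv g', hg'⟩
  let J : Ideal D :=
    { carrier := {f | R f = 0}
      add_mem' := fun {f g} hf hg => by simp only [Set.mem_setOf_eq, map_add] at *; rw [hf, hg, add_zero]
      zero_mem' := map_zero R
      smul_mem' := fun g f hf => LinearMap.ext fun c => by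
        obtain ⟨z, hz⟩ := hC c.1 c.2
        show (g * f).ofConv c.1 = 0
        rw [LinearMap.convMul_apply, ← hz, ← LinearMap.comp_apply, ← LinearMap.comp_apply,
          LinearMap.comp_assoc, ← TensorProduct.map_comp, show f.ofConv ∘ₗ C.subtype = 0 from hf]
        simp }
  let Q := D ⧸ J
  haveI : Module.Finite k Q := by
    let R' : Q →ₗ[k] (C →ₗ[k] k) :=
      (Submodule.liftQ (J.restrictScalars k) R (fun f hf => hf)).comp
        (Submodule.Quotient.restrictScalarsEquiv k J).symm.toLinearMap
    refine Module.Finite.of_injective R' fun x y hxy => ?_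
    obtain ⟨f, rfl⟩ := Ideal.Quotient.mk_surjective x
    obtain ⟨g, rfl⟩ := Ideal.Quotient.mk_surjective y
    refine (Ideal.Quotient.eq (I := J)).2 ?_
    show R (f - g) = 0
    rw [map_sub, sub_eq_zero]
    exact hxy
  let ρ : WithConv (B →ₗ[k] k) →ₐ[k] Q := (Ideal.Quotient.mkₐ k J).comp (dualMap π)
  obtain ⟨L, _, _, hL, ψ₀, hψ₀⟩ := exists_char_over (E := WithConv (B →ₗ[k] k)) (Q := Q) ρ (evGL hb) (fun g hg => by
    have h1 : dualMap π g ∈ J := Ideal.Quotient.eq_zero_iff_mem.1 hg
    have h2 := LinearMap.congr_fun (h1 : R (dualMap π g) = 0) ⟨a₀, haC⟩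
    show g.ofConv b = 0
    rw [← ha₀]
    exact h2)
  haveI := hL
  let ψ : D →ₐ[k] L := ψ₀.comp (Ideal.Quotient.mkₐ k J)
  have hψπ : ∀ g, ψ (dualMap π g) = algebraMap k L (g.ofConv b) := fun g => hψ₀ g
  let l := Module.finBasis k L
  let d := Module.finrank k L
  have hRψ : ∀ f, R f = 0 → ψ f = 0 := fun f hf => by
    show ψ₀ (Ideal.Quotient.mk J f) = 0
    rw [show Ideal.Quotient.mk J f = 0 from Ideal.Quotient.eq_zero_iff_mem.2 hf, map_zero]
  have hex : ∀ i, ∃ a : A, ∀ f : D, l.coord i (ψ f) = f.ofConv a := fun i => by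
    let F : D →ₗ[k] k := l.coord i ∘ₗ ψ.toLinearMap
    let Φ : Module.Dual k (C →ₗ[k] k) :=
      (Submodule.liftQ (LinearMap.ker R) F fun f hf => by simp [F, hRψ f hf]) ∘ₗ
        (R.quotKerEquivOfSurjective hRsurj).symm.toLinearMap
    obtain ⟨c, hc⟩ := (Module.evalEquiv k C).surjective Φ
    refine ⟨c.1, fun f => ?_⟩
    have := LinearMap.congr_fun hc (R f)
    refine Eq.trans ?_ this.symm
    have e : (R.quotKerEquivOfSurjective hRsurj).symm (R f) = Submodule.Quotient.mk f :=
      (LinearEquiv.symm_apply_eq _).2 rfl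
    simp [Φ, e, F]
  choose a ha using hex
  let M : Fin d → Matrix (Fin d) (Fin d) k := fun i => Algebra.leftMulMatrix l (l i)
  let c : Fin d → Fin d → Fin d → k := fun i j n => l.coord n (l i * l j)
  have hΔ : ∀ n, Coalgebra.comul (R := k) (a n) = ∑ i, ∑ j, c i j n • (a i ⊗ₜ[k] a j) := fun n => by
    refine eq_of_pair fun f g => ?_
    have h1 : pair f g (Coalgebra.comul (a n)) = l.coord n (ψ (toConv f) * ψ (toConv g)) := by
      rw [← map_mul, ha, LinearMap.convMul_apply]
      rfl
    rw [h1, ← l.sum_repr (ψ (toConv f)), ← l.sum_repr (ψ (toConv g)), Finset.sum_mul_sum]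
    simp only [map_sum, smul_mul_smul_comm, map_smul, smul_eq_mul]
    refine Finset.sum_congr rfl fun i _ => Finset.sum_congr rfl fun j _ => ?_
    have e1 : l.repr (ψ (toConv f)) i = f (a i) := ha i (toConv f)
    have e2 : l.repr (ψ (toConv g)) j = g (a j) := ha j (toConv g)
    simp [pair, c, e1, e2]
    ring
  let N : {E : Type u} → [CommRing E] → [Algebra k E] → (Fin d → E) → Matrix (Fin d) (Fin d) E :=
    fun {E} _ _ v => ∑ i, v i • (M i).map (algebraMap k E)
  have hNmap : ∀ {E E' : Type u} [CommRing E] [Algebra k E] [CommRing E'] [Algebra k E'] (φ : E →ₐ[k] E')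
      (v : Fin d → E), φ (N v).det = (N fun i => φ (v i)).det := fun φ v => by
    rw [AlgHom.map_det]
    congr 1
    ext p q
    simp [N, Matrix.sum_apply]
  have hd : 0 < d := Module.finrank_pos
  have hN1 : ∀ {E : Type u} [CommRing E] [Algebra k E] (e : E),
      (N fun i => l.coord i 1 • e) = e • (1 : Matrix (Fin d) (Fin d) E) := fun {E} _ _ e => by
    have h1 : ∑ i, l.coord i 1 • M i = 1 := by
      have := congrArg (Algebra.leftMulMatrix l) (l.sum_repr 1)
      simp only [map_sum, map_smul, map_one] at this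
      exact this
    conv_rhs => rw [← Matrix.map_one (algebraMap k E) (map_zero _) (map_one _), ← h1]
    ext p q
    simp [N, Matrix.sum_apply, Finset.mul_sum]
    refine Finset.sum_congr rfl fun i _ => ?_
    rw [Algebra.smul_def]
    ring
  refine ⟨d, hd, fun hcl => ?_, (N a).det, ⟨?_, ?_⟩, ?_⟩
  · haveI := hcl
    exact (LinearEquiv.ofBijective (Algebra.linearMap k L)
      (IsAlgClosed.algebraMap_bijective_of_isIntegral (k := k) (K := L))).finrank_eq.symm.trans (Module.finrank_self k)
  · have h := hNmap (Bialgebra.counitAlgHom k A) a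
    have e : (fun i => Bialgebra.counitAlgHom k A (a i)) = fun i => l.coord i 1 • (1 : k) := by
      funext i
      have := ha i 1
      rw [map_one, LinearMap.convOne_apply] at this
      simpa using this.symm
    rw [e, hN1, one_smul, Matrix.det_one] at h
    exact h
  · have h := hNmap (Bialgebra.comulAlgHom k A) a
    rw [Bialgebra.comulAlgHom_apply] at h
    rw [h]
    have h' : (N fun i => Bialgebra.comulAlgHom k A (a i)) =
        (N fun i => (Algebra.TensorProduct.includeLeft : A →ₐ[k] A ⊗[k] A) (a i)) *
          (N fun i => (Algebra.TensorProduct.includeRight : A →ₐ[k] A ⊗[k] A) (a i)) := by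
      simp only [N, Finset.sum_mul_sum, smul_mul_smul_comm, ← Matrix.map_mul, Bialgebra.comulAlgHom_apply, hΔ,
        Algebra.TensorProduct.includeLeft_apply, Algebra.TensorProduct.includeRight_apply,
        Algebra.TensorProduct.tmul_mul_tmul, mul_one, one_mul]
      have hM : ∀ i j, M i * M j = ∑ n, c i j n • M n := fun i j => by
        have := congrArg (Algebra.leftMulMatrix l) (l.sum_repr (l i * l j))
        simp only [map_sum, map_smul, map_mul] at this
        exact this.symm
      simp only [hM]
      ext p q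
      simp only [Matrix.sum_apply, Matrix.smul_apply, Matrix.map_apply, smul_eq_mul, Finset.sum_mul, map_sum,
        Finset.mul_sum, map_mul]
      rw [Finset.sum_comm]
      refine Finset.sum_congr rfl fun i _ => ?_
      rw [Finset.sum_comm]
      refine Finset.sum_congr rfl fun j _ => Finset.sum_congr rfl fun n _ => ?_
      rw [Algebra.smul_def]
      ring
    rw [h', Matrix.det_mul, ← hNmap, ← hNmap, Algebra.TensorProduct.includeLeft_apply,
      Algebra.TensorProduct.includeRight_apply, Algebra.TensorProduct.tmul_mul_tmul, mul_one, one_mul]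
  · have h := hNmap (π : A →ₐ[k] B) a
    have e : (fun i => (π : A →ₐ[k] B) (a i)) = fun i => l.coord i 1 • b := by
      funext i
      refine Module.Basis.ext_elem (Module.Free.chooseBasis k B) fun j => ?_
      let g := (Module.Free.chooseBasis k B).coord j
      show g (π (a i)) = g (l.coord i 1 • b)
      have h1 := ha i (dualMap π (toConv g))
      rw [hψπ, Algebra.algebraMap_eq_smul_one, map_smul] at h1
      rw [map_smul]
      refine h1.symm.trans ?_
      simp [mul_comm, g]
    rw [e, hN1] at h
    refine h.trans ?_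
    rw [Matrix.det_smul, Matrix.det_one, mul_one, Fintype.card_fin]

end Groth.Agent.GrpLikeExt87
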